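import Groth.Agent.FComplLib.Spf
import Groth.Agent.ModPairLib.Basic
import Mathlib.AlgebraicGeometry.Morphisms.Smooth

/-!
# Formal spectra of algebras over a ring: cartesian squares, smoothness of the levels
-/

universe u

open CategoryTheory CategoryTheory.Limits AlgebraicGeometry

namespace Groth.Agent.FSLift

/-- The spectrum of a base changed surjection is the base change of a closed immersion. -/
theorem isPullback_spec {R R' S S' : Type u} [CommRing R] [CommRing R'] [CommRing S] [CommRing S']
    (φ : R →+* R') (π : R →+* S) (π' : R' →+* S') (χ : S →+* S') (hπ : Function.Surjective π)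
    (hπ' : Function.Surjective π') (hc : π'.comp φ = χ.comp π)
    (hk : RingHom.ker π' = (RingHom.ker π).map φ) :
    IsPullback (Spec.map (CommRingCat.ofHom π')) (Spec.map (CommRingCat.ofHom χ))
      (Spec.map (CommRingCat.ofHom φ)) (Spec.map (CommRingCat.ofHom π)) := by
  have := IsClosedImmersion.spec_of_surjective (CommRingCat.ofHom π') hπ'
  have := IsClosedImmersion.spec_of_surjective (CommRingCat.ofHom π) hπ
  refine isPullback_of_isClosedImmersion _ _ _ _ ?_ ?_
  · rw [← Spec.map_comp, ← Spec.map_comp, ← CommRingCat.ofHom_comp, ← CommRingCat.ofHom_comp, hc]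
  · refine Scheme.IdealSheafData.ext_of_isAffine ?_
    rw [ModPairLib.comap_ideal_affine, FComplLib.ker_specMap_ideal π hπ,
      FComplLib.ker_specMap_ideal π' hπ', hk]
    have e := congrArg CommRingCat.Hom.hom (Scheme.ΓSpecIso_inv_naturality (CommRingCat.ofHom φ))
    simp only [CommRingCat.hom_comp, CommRingCat.hom_ofHom] at e
    rw [Ideal.map_map, Ideal.map_map, ← e]

variable {A : Type u} [CommRing A] (J : Ideal A) (B : Type u) [CommRing B] [Algebra A B]

/-- The structure map of the formal spectrum of an algebra, adic over the base. -/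
noncomputable def algMap : FSch.spf B (J.map (algebraMap A B)) ⟶ FSch.spf A J :=
  FSch.spfMap (J.map (algebraMap A B)) J (algebraMap A B) Ideal.le_comap_map

theorem isPullback_algMap_app (n : ℕ) :
    IsPullback (Spec.map (CommRingCat.ofHom (Ideal.Quotient.mk ((J.map (algebraMap A B)) ^ (n + 1)))))
      ((algMap J B : FSch.Hom _ _).app n) (Spec.map (CommRingCat.ofHom (algebraMap A B)))
      (Spec.map (CommRingCat.ofHom (Ideal.Quotient.mk (J ^ (n + 1))))) := by
  refine isPullback_spec _ _ _ _ Ideal.Quotient.mk_surjective Ideal.Quotient.mk_surjective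
    (RingHom.ext fun _ => rfl) ?_
  rw [Ideal.mk_ker, Ideal.mk_ker, Ideal.map_pow]

theorem isAdicHom_algMap : FSch.IsAdicHom (algMap J B) := by
  intro n
  refine isPullback_spec _ _ _ _
    (Ideal.Quotient.factor_surjective (Ideal.pow_le_pow_right (Nat.le_succ (n + 1))))
    (Ideal.Quotient.factor_surjective (Ideal.pow_le_pow_right (Nat.le_succ (n + 1))))
    (Ideal.Quotient.ringHom_ext (RingHom.ext fun _ => rfl)) ?_
  rw [Ideal.Quotient.factor_ker, Ideal.Quotient.factor_ker, Ideal.map_map]
  refine ((congrArg (Ideal.map (Ideal.Quotient.mk _)) (Ideal.map_pow (algebraMap A B) J (n + 1)).symm).trans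
    (Ideal.map_map _ _)).trans ?_
  rfl

theorem smooth_algMap_app [Algebra.Smooth A B] (n : ℕ) :
    Smooth ((algMap J B : FSch.Hom _ _).app n) := by
  have h : Smooth (Spec.map (CommRingCat.ofHom (algebraMap A B))) :=
    (HasRingHomProperty.Spec_iff (P := @Smooth)).2 (RingHom.smooth_algebraMap.2 ‹_›)
  exact MorphismProperty.of_isPullback (isPullback_algMap_app J B n) h

end Groth.Agent.FSLift
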