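import Groth.Prelude.Def_FSch3
import Mathlib.AlgebraicGeometry.OpenImmersion

/-!
# The chart of a completion over an affine open
-/

universe u

open CategoryTheory CategoryTheory.Limits AlgebraicGeometry

namespace Groth.Agent.FSLift

variable (S : Scheme.{u}) (𝒥 : S.IdealSheafData) (W : S.affineOpens)

/-- Level `n` of the chart. -/
noncomputable def chartApp (n : ℕ) :
    Spec (CommRingCat.of (Γ(S, W.1) ⧸ 𝒥.ideal W ^ (n + 1))) ⟶ (𝒥 ^ (n + 1)).subscheme :=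
  (𝒥 ^ (n + 1)).subschemeCover.f W

instance isOpenImmersion_chartApp (n : ℕ) : IsOpenImmersion (chartApp S 𝒥 W n) :=
  inferInstanceAs (IsOpenImmersion ((𝒥 ^ (n + 1)).subschemeCover.f W))

theorem chartApp_ι (n : ℕ) :
    chartApp S 𝒥 W n ≫ (𝒥 ^ (n + 1)).subschemeι =
      Spec.map (CommRingCat.ofHom (Ideal.Quotient.mk (𝒥.ideal W ^ (n + 1)))) ≫ W.2.fromSpec :=
  ((𝒥 ^ (n + 1)).subschemeCover_map_subschemeι W).trans ((𝒥 ^ (n + 1)).glueDataObjι_ι W)

theorem chartApp_comm (n : ℕ) :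
    chartApp S 𝒥 W n ≫ Scheme.IdealSheafData.inclusion (FSch.pow_succ_le S 𝒥 n) =
      CohB1.specQuotTrans (𝒥.ideal W) n ≫ chartApp S 𝒥 W (n + 1) := by
  rw [← cancel_mono (𝒥 ^ (n + 1 + 1)).subschemeι, Category.assoc, Category.assoc, chartApp_ι,
    Scheme.IdealSheafData.inclusion_subschemeι, ← Category.assoc]
  refine (chartApp_ι S 𝒥 W n).trans ?_
  exact congrArg (· ≫ W.2.fromSpec) (CohB1.specQuotTrans_specQuot (𝒥.ideal W) n).symm

/-- The chart, as a morphism of systems. -/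
noncomputable def chart : FSch.spf Γ(S, W.1) (𝒥.ideal W) ⟶ FSch.completionAlong S 𝒥 :=
  ⟨chartApp S 𝒥 W, chartApp_comm S 𝒥 W⟩

theorem opensRange_chartApp (n : ℕ) :
    (chartApp S 𝒥 W n).opensRange = (𝒥 ^ (n + 1)).subschemeι ⁻¹ᵁ W.1 :=
  Scheme.IdealSheafData.opensRange_subschemeCover_map _ W

theorem isAdicHom_chart : FSch.IsAdicHom (chart S 𝒥 W) := by
  intro n
  have he : Scheme.IdealSheafData.inclusion (FSch.pow_succ_le S 𝒥 n) ⁻¹ᵁ
      (chartApp S 𝒥 W (n + 1)).opensRange = (chartApp S 𝒥 W n).opensRange := by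
    rw [opensRange_chartApp, opensRange_chartApp, ← Scheme.Hom.comp_preimage,
      Scheme.IdealSheafData.inclusion_subschemeι]
  exact IsOpenImmersion.isPullback (CohB1.specQuotTrans (𝒥.ideal W) n) (chartApp S 𝒥 W n) (chartApp S 𝒥 W (n + 1))
    (Scheme.IdealSheafData.inclusion (FSch.pow_succ_le S 𝒥 n)) (chartApp_comm S 𝒥 W n) he

end Groth.Agent.FSLift
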