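import Groth.Agent.FSLift.Base
import Mathlib.RingTheory.Smooth.Basic

/-!
# Lifting a morphism of smooth algebras to all thickenings
-/

universe u

open CategoryTheory AlgebraicGeometry

namespace Groth.Agent.FSLift

variable {A : Type u} [CommRing A] (J : Ideal A) (B C : Type u) [CommRing B] [CommRing C]
  [Algebra A B] [Algebra A C]

/-- The reduction map between consecutive truncations. -/
abbrev factA (n : ℕ) :
    (B ⧸ (J.map (algebraMap A B)) ^ (n + 1 + 1)) →ₐ[A] (B ⧸ (J.map (algebraMap A B)) ^ (n + 1)) :=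
  Ideal.Quotient.factorₐ A (Ideal.pow_le_pow_right (Nat.le_add_right (n + 1) 1))

theorem sq_map_eq_zero {R : Type u} [CommRing R] (K : Ideal R) (n : ℕ) :
    (K ^ (n + 1)).map (Ideal.Quotient.mk (K ^ (n + 1 + 1))) ^ 2 = 0 := by
  rw [← Ideal.map_pow, Submodule.zero_eq_bot, Ideal.map_eq_bot_iff_le_ker, Ideal.mk_ker, ← pow_mul]
  exact Ideal.pow_le_pow_right (by omega)

theorem exists_lift_step [Algebra.Smooth A C] (n : ℕ)
    (g : C →ₐ[A] B ⧸ (J.map (algebraMap A B)) ^ (n + 1)) :
    ∃ l : C →ₐ[A] B ⧸ (J.map (algebraMap A B)) ^ (n + 1 + 1), (factA J B n).comp l = g := by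
  have hs : Function.Surjective (factA J B n) := fun z => by
    obtain ⟨x, rfl⟩ := Ideal.Quotient.mk_surjective z
    exact ⟨Ideal.Quotient.mk _ x, rfl⟩
  have hnil : IsNilpotent (RingHom.ker (factA J B n).toRingHom) := by
    refine ⟨2, ?_⟩
    have hk : RingHom.ker (factA J B n).toRingHom =
        (((J.map (algebraMap A B)) ^ (n + 1))).map
          (Ideal.Quotient.mk ((J.map (algebraMap A B)) ^ (n + 1 + 1))) :=
      Ideal.Quotient.factor_ker (Ideal.pow_le_pow_right (Nat.le_add_right (n + 1) 1))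
    rw [hk]
    exact sq_map_eq_zero _ n
  refine ⟨Algebra.FormallySmooth.liftOfSurjective g (factA J B n) hs hnil, AlgHom.ext fun c => ?_⟩
  exact Algebra.FormallySmooth.liftOfSurjective_apply g (factA J B n) hs hnil c

/-- A choice of the successive lifts. -/
noncomputable def towerMap [Algebra.Smooth A C]
    (g₀ : C →ₐ[A] B ⧸ (J.map (algebraMap A B)) ^ (0 + 1)) :
    ∀ n, C →ₐ[A] B ⧸ (J.map (algebraMap A B)) ^ (n + 1)
  | 0 => g₀
  | n + 1 => (exists_lift_step J B C n (towerMap g₀ n)).choose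

theorem factA_towerMap [Algebra.Smooth A C]
    (g₀ : C →ₐ[A] B ⧸ (J.map (algebraMap A B)) ^ (0 + 1)) (n : ℕ) :
    (factA J B n).comp (towerMap J B C g₀ (n + 1)) = towerMap J B C g₀ n := by
  rw [towerMap]
  exact (exists_lift_step J B C n (towerMap J B C g₀ n)).choose_spec

/-- A map to the first truncation extends to a compatible family of maps of truncations. -/
theorem exists_tower [Algebra.Smooth A C]
    (g₀ : C →ₐ[A] B ⧸ (J.map (algebraMap A B)) ^ (0 + 1)) :
    ∃ φ : ∀ n, (C ⧸ (J.map (algebraMap A C)) ^ (n + 1)) →+* (B ⧸ (J.map (algebraMap A B)) ^ (n + 1)),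
      (∀ c, φ 0 (Ideal.Quotient.mk _ c) = g₀ c) ∧
      (∀ n (a : A), φ n (Ideal.Quotient.mk _ (algebraMap A C a)) =
        Ideal.Quotient.mk _ (algebraMap A B a)) ∧
      ∀ n, (Ideal.Quotient.factor (Ideal.pow_le_pow_right (Nat.le_add_right (n + 1) 1) : (J.map (algebraMap A B)) ^ (n + 1 + 1) ≤ (J.map (algebraMap A B)) ^ (n + 1))).comp (φ (n + 1)) =
        (φ n).comp (Ideal.Quotient.factor (Ideal.pow_le_pow_right (Nat.le_add_right (n + 1) 1) : (J.map (algebraMap A C)) ^ (n + 1 + 1) ≤ (J.map (algebraMap A C)) ^ (n + 1))) := by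
  have hle : ∀ n, (J.map (algebraMap A C)) ^ (n + 1) ≤ RingHom.ker (towerMap J B C g₀ n).toRingHom := fun n => by
    rw [← Ideal.map_pow, Ideal.map_le_iff_le_comap]
    intro a ha
    show towerMap J B C g₀ n (algebraMap A C a) = 0
    rw [AlgHom.commutes]
    refine Ideal.Quotient.eq_zero_iff_mem.2 ?_
    rw [← Ideal.map_pow]
    exact Ideal.mem_map_of_mem _ ha
  refine ⟨fun n => Ideal.Quotient.lift _ (towerMap J B C g₀ n).toRingHom (fun a ha => hle n ha), fun c => ?_,
    fun n a => ?_, fun n => Ideal.Quotient.ringHom_ext (RingHom.ext fun c => ?_)⟩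
  · rw [Ideal.Quotient.lift_mk]
    exact congrFun (congrArg DFunLike.coe (by rw [towerMap] : towerMap J B C g₀ 0 = g₀)) c
  · rw [Ideal.Quotient.lift_mk]
    exact (towerMap J B C g₀ n).commutes a
  · exact AlgHom.congr_fun (factA_towerMap J B C g₀ n) c

end Groth.Agent.FSLift
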