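import Groth.Agent.FSLift.Chart
import Groth.Agent.FSLift.Tower
import Groth.Agent.SmoothingLib.LiftSmooth

/-!
# Local smooth formal liftings of morphisms of smooth schemes
-/

universe u

open CategoryTheory CategoryTheory.Limits AlgebraicGeometry

namespace Groth.Agent.FSLift

/-- An open of a scheme over the first level of a chart, read in rings. -/
theorem exists_ring_map {S : Scheme.{u}} (𝒥 : S.IdealSheafData) (W : S.affineOpens) {X₀ : Scheme.{u}}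
    (a : X₀ ⟶ (𝒥 ^ (0 + 1)).subscheme) [Smooth a] {U : X₀.Opens} (hU : IsAffineOpen U)
    (h : U ≤ a ⁻¹ᵁ ((𝒥 ^ (0 + 1)).subschemeι ⁻¹ᵁ W.1)) :
    ∃ ψ : Γ(S, W.1) ⧸ 𝒥.ideal W ^ (0 + 1) →+* Γ(X₀, U), ψ.Smooth ∧
      Spec.map (CommRingCat.ofHom ψ) ≫ chartApp S 𝒥 W 0 = hU.fromSpec ≫ a := by
  have hr : Set.range (hU.fromSpec ≫ a) ⊆ Set.range (chartApp S 𝒥 W 0) := by
    rintro _ ⟨z, rfl⟩
    have hz : hU.fromSpec z ∈ U := hU.range_fromSpec.le ⟨z, rfl⟩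
    have := h hz
    rw [← opensRange_chartApp S 𝒥 W 0] at this
    exact this
  let q := IsOpenImmersion.lift (chartApp S 𝒥 W 0) (hU.fromSpec ≫ a) hr
  have hq : Smooth q :=
    MorphismProperty.of_isPullback (IsOpenImmersion.isPullback_lift_id _ _ hr).flip inferInstance
  refine ⟨(Spec.preimage q).hom, ?_, ?_⟩
  · rw [← CommRingCat.hom_ofHom (Spec.preimage q).hom, CommRingCat.ofHom_hom]
    refine (HasRingHomProperty.Spec_iff (P := @Smooth)).1 ?_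
    rw [Spec.map_preimage]
    exact hq
  · rw [CommRingCat.ofHom_hom, Spec.map_preimage]
    exact IsOpenImmersion.lift_fac _ _ _

/-- An algebra lifting a smooth algebra over a quotient. -/
theorem exists_alg_quot {A B₀ : Type u} [CommRing A] [CommRing B₀] (K : Ideal A)
    (ψ : A ⧸ K →+* B₀) (hψ : ψ.Smooth) :
    ∃ (B : Type u) (_ : CommRing B) (_ : Algebra A B), Algebra.Smooth A B ∧
      ∃ e : B ⧸ K.map (algebraMap A B) ≃+* B₀,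
        ∀ a, e (Ideal.Quotient.mk _ (algebraMap A B a)) = ψ (Ideal.Quotient.mk _ a) := by
  letI : Algebra (A ⧸ K) B₀ := ψ.toAlgebra
  have : Algebra.Smooth (A ⧸ K) B₀ := hψ.toAlgebra
  obtain ⟨B, i₁, i₂, hB, ⟨e⟩⟩ := SmoothingLib.exists_smooth_lift (A₀ := B₀) K
  exact ⟨B, i₁, i₂, hB, e.toRingEquiv, fun a => e.commutes (Ideal.Quotient.mk _ a)⟩

theorem exists_ringEquiv_of_eq {B B₀ : Type u} [CommRing B] [CommRing B₀] {L L' : Ideal B} (h : L' = L)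
    (e : B ⧸ L ≃+* B₀) :
    ∃ e' : B ⧸ L' ≃+* B₀, ∀ b, e' (Ideal.Quotient.mk _ b) = e (Ideal.Quotient.mk _ b) := by
  subst h
  exact ⟨e, fun _ => rfl⟩

/-- An algebra lifting a smooth algebra over the first truncation. -/
theorem exists_alg {A B₀ : Type u} [CommRing A] [CommRing B₀] (J : Ideal A)
    (ψ : A ⧸ J ^ (0 + 1) →+* B₀) (hψ : ψ.Smooth) :
    ∃ (B : Type u) (_ : CommRing B) (_ : Algebra A B), Algebra.Smooth A B ∧
      ∃ e : B ⧸ (J.map (algebraMap A B)) ^ (0 + 1) ≃+* B₀,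
        ∀ a, e (Ideal.Quotient.mk _ (algebraMap A B a)) = ψ (Ideal.Quotient.mk _ a) := by
  obtain ⟨B, i₁, i₂, hB, e, he⟩ := exists_alg_quot (J ^ (0 + 1)) ψ hψ
  obtain ⟨e', he'⟩ := exists_ringEquiv_of_eq (Ideal.map_pow (algebraMap A B) J (0 + 1)).symm e
  exact ⟨B, i₁, i₂, hB, e', fun a => (he' _).trans (he a)⟩

theorem exists_local_lift (S : Scheme.{u})
    (𝒥 : S.IdealSheafData) {X₀ Y₀ : Scheme.{u}}
    (a : X₀ ⟶ (FSch.completionAlong S 𝒥).X 0) (b : Y₀ ⟶ (FSch.completionAlong S 𝒥).X 0)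
    [Smooth a] [Smooth b] (f : X₀ ⟶ Y₀) (w : f ≫ b = a) (x : X₀) :
    ∃ (U₀ : X₀.Opens) (V₀ : Y₀.Opens) (_hU : x ∈ U₀) (hUV : U₀ ≤ f ⁻¹ᵁ V₀)
      (𝔘 𝔙 : FSch.Sys.{u}) (p : 𝔘 ⟶ FSch.completionAlong S 𝒥) (q : 𝔙 ⟶ FSch.completionAlong S 𝒥)
      (Φ : 𝔘 ⟶ 𝔙) (eU : 𝔘.X 0 ≅ U₀.toScheme) (eV : 𝔙.X 0 ≅ V₀.toScheme),
      Φ ≫ q = p ∧ FSch.IsAdicHom p ∧ FSch.IsAdicHom q ∧
      (∀ n : ℕ, Smooth ((p : FSch.Hom 𝔘 _).app n)) ∧
      (∀ n : ℕ, Smooth ((q : FSch.Hom 𝔙 _).app n)) ∧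
      eU.hom ≫ U₀.ι ≫ a = (p : FSch.Hom 𝔘 _).app 0 ∧
      eV.hom ≫ V₀.ι ≫ b = (q : FSch.Hom 𝔙 _).app 0 ∧
      (Φ : FSch.Hom 𝔘 𝔙).app 0 ≫ eV.hom = eU.hom ≫ f.resLE V₀ U₀ hUV := by
  let a' : X₀ ⟶ (𝒥 ^ (0 + 1)).subscheme := a
  let b' : Y₀ ⟶ (𝒥 ^ (0 + 1)).subscheme := b
  have : Smooth a' := ‹Smooth a›
  have : Smooth b' := ‹Smooth b›
  have w' : f ≫ b' = a' := w
  obtain ⟨W₀, hW₀, hxW, -⟩ := exists_isAffineOpen_mem_and_subset
    (show (𝒥 ^ (0 + 1)).subschemeι (a' x) ∈ (⊤ : S.Opens) from trivial)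
  let W : S.affineOpens := ⟨W₀, hW₀⟩
  let W' := (𝒥 ^ (0 + 1)).subschemeι ⁻¹ᵁ W₀
  have hfxW : f x ∈ b' ⁻¹ᵁ W' := by
    show b' (f x) ∈ W'
    rw [← Scheme.Hom.comp_apply, w']
    exact hxW
  obtain ⟨V₀, hV, hfx, hVW⟩ := exists_isAffineOpen_mem_and_subset hfxW
  obtain ⟨U₀, hU, hxU, hUV⟩ := exists_isAffineOpen_mem_and_subset (show x ∈ f ⁻¹ᵁ V₀ from hfx)
  have hUV' : U₀ ≤ f ⁻¹ᵁ V₀ := hUV
  have hVW' : V₀ ≤ b' ⁻¹ᵁ W' := hVW
  have hUW : U₀ ≤ a' ⁻¹ᵁ W' := fun y hy => by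
    have h1 : b' (f y) ∈ W' := hVW' (hUV' hy)
    rwa [← Scheme.Hom.comp_apply, w'] at h1
  obtain ⟨ψU, hψU, hcU⟩ := exists_ring_map 𝒥 W a' hU hUW
  obtain ⟨ψV, hψV, hcV⟩ := exists_ring_map 𝒥 W b' hV hVW'
  let φ₀ : Γ(Y₀, V₀) →+* Γ(X₀, U₀) := (f.appLE V₀ U₀ hUV').hom
  have hφ₀ : Spec.map (CommRingCat.ofHom φ₀) ≫ hV.fromSpec = hU.fromSpec ≫ f := by
    rw [CommRingCat.ofHom_hom]
    exact hV.SpecMap_appLE_fromSpec f hU hUV'
  have hcomp : φ₀.comp ψV = ψU := by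
    refine congrArg CommRingCat.Hom.hom (Spec.map_injective ?_ :
      CommRingCat.ofHom (φ₀.comp ψV) = CommRingCat.ofHom ψU)
    rw [← cancel_mono (chartApp S 𝒥 W 0), CommRingCat.ofHom_comp, Spec.map_comp, Category.assoc, hcV,
      hcU, ← Category.assoc, hφ₀, Category.assoc, w']
  obtain ⟨B, _, _, hB, eB, heB⟩ := exists_alg (𝒥.ideal W) ψU hψU
  obtain ⟨C, _, _, hC, eC, heC⟩ := exists_alg (𝒥.ideal W) ψV hψV
  let J : Ideal Γ(S, W.1) := 𝒥.ideal W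
  let g₀ : C →ₐ[Γ(S, W.1)] B ⧸ (J.map (algebraMap _ B)) ^ (0 + 1) :=
    { toRingHom := (eB.symm.toRingHom.comp (φ₀.comp eC.toRingHom)).comp (Ideal.Quotient.mk _)
      commutes' := fun r => by
        show eB.symm (φ₀ (eC (Ideal.Quotient.mk _ (algebraMap _ C r)))) = _
        rw [heC, show φ₀ (ψV _) = ψU _ from RingHom.congr_fun hcomp _, ← heB]
        exact eB.symm_apply_apply _ }
  obtain ⟨φ, hφ0, hφa, hφc⟩ := exists_tower J B C g₀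
  let 𝔘 := FSch.spf B (J.map (algebraMap _ B))
  let 𝔙 := FSch.spf C (J.map (algebraMap _ C))
  let p : 𝔘 ⟶ FSch.completionAlong S 𝒥 := algMap J B ≫ chart S 𝒥 W
  let q : 𝔙 ⟶ FSch.completionAlong S 𝒥 := algMap J C ≫ chart S 𝒥 W
  let Φ : 𝔘 ⟶ 𝔙 := ⟨fun n => Spec.map (CommRingCat.ofHom (φ n)), fun n => by
    show Spec.map (CommRingCat.ofHom (φ n)) ≫ CohB1.specQuotTrans _ n =
      CohB1.specQuotTrans _ n ≫ Spec.map (CommRingCat.ofHom (φ (n + 1)))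
    rw [CohB1.specQuotTrans, CohB1.specQuotTrans]
    refine ((Spec.map_comp _ _).symm.trans ?_).trans (Spec.map_comp _ _)
    exact congrArg (fun g => Spec.map (CommRingCat.ofHom g)) (hφc n).symm⟩
  let iU : Spec (CommRingCat.of (B ⧸ (J.map (algebraMap _ B)) ^ (0 + 1))) ≅ Spec Γ(X₀, U₀) :=
    Scheme.Spec.mapIso eB.toCommRingCatIso.symm.op
  let iV : Spec (CommRingCat.of (C ⧸ (J.map (algebraMap _ C)) ^ (0 + 1))) ≅ Spec Γ(Y₀, V₀) :=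
    Scheme.Spec.mapIso eC.toCommRingCatIso.symm.op
  have hiU : iU.hom = Spec.map (CommRingCat.ofHom eB.symm.toRingHom) := rfl
  have hiV : iV.hom = Spec.map (CommRingCat.ofHom eC.symm.toRingHom) := rfl
  have hsm : ∀ (T : Type u) [CommRing T] [Algebra Γ(S, W.1) T] [Algebra.Smooth Γ(S, W.1) T] (n : ℕ),
      Smooth ((algMap J T ≫ chart S 𝒥 W : FSch.Hom _ _).app n) := fun T _ _ _ n => by
    have h1 := smooth_algMap_app J T n
    have h2 : IsOpenImmersion ((chart S 𝒥 W : FSch.Hom _ _).app n) := isOpenImmersion_chartApp S 𝒥 W n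
    exact inferInstanceAs (Smooth (_ ≫ _))
  have hadic : ∀ (T : Type u) [CommRing T] [Algebra Γ(S, W.1) T],
      FSch.IsAdicHom (algMap J T ≫ chart S 𝒥 W) := fun T _ _ n =>
    (isAdicHom_algMap J T n).paste_vert (isAdicHom_chart S 𝒥 W n)
  have hlev : ∀ {T T₀ : Type u} [CommRing T] [CommRing T₀] [Algebra Γ(S, W.1) T]
      (ψ : Γ(S, W.1) ⧸ J ^ (0 + 1) →+* T₀) (e : T ⧸ (J.map (algebraMap _ T)) ^ (0 + 1) ≃+* T₀),
      (∀ r, e (Ideal.Quotient.mk _ (algebraMap _ T r)) = ψ (Ideal.Quotient.mk _ r)) →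
      e.symm.toRingHom.comp ψ =
        FSch.quotPowMap (J.map (algebraMap _ T)) J (algebraMap _ T) Ideal.le_comap_map 0 := by
    intro T T₀ _ _ _ ψ e he
    refine Ideal.Quotient.ringHom_ext (RingHom.ext fun r => ?_)
    show e.symm (ψ _) = _
    rw [← he, e.symm_apply_apply]
    rfl
  refine ⟨U₀, V₀, hxU, hUV', 𝔘, 𝔙, p, q, Φ, iU ≪≫ hU.isoSpec.symm, iV ≪≫ hV.isoSpec.symm,
    FSch.Hom.ext (funext fun n => ?_), hadic B, hadic C, hsm B, hsm C, ?_, ?_, ?_⟩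
  · show Spec.map (CommRingCat.ofHom (φ n)) ≫ (algMap J C : FSch.Hom _ _).app n ≫ chartApp S 𝒥 W n =
      (algMap J B : FSch.Hom _ _).app n ≫ chartApp S 𝒥 W n
    rw [← Category.assoc]
    congr 1
    refine (Spec.map_comp _ _).symm.trans ?_
    exact congrArg (fun g => Spec.map (CommRingCat.ofHom g))
      (Ideal.Quotient.ringHom_ext (RingHom.ext fun r => hφa n r))
  · show (iU.hom ≫ hU.isoSpec.inv) ≫ U₀.ι ≫ a' =
      Spec.map (CommRingCat.ofHom _) ≫ chartApp S 𝒥 W 0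
    rw [← hlev ψU eB heB, CommRingCat.ofHom_comp, Spec.map_comp, Category.assoc, hiU,
      IsAffineOpen.isoSpec_inv_ι_assoc, Category.assoc, hcU]
  · show (iV.hom ≫ hV.isoSpec.inv) ≫ V₀.ι ≫ b' =
      Spec.map (CommRingCat.ofHom _) ≫ chartApp S 𝒥 W 0
    rw [← hlev ψV eC heC, CommRingCat.ofHom_comp, Spec.map_comp, Category.assoc, hiV,
      IsAffineOpen.isoSpec_inv_ι_assoc, Category.assoc, hcV]
  · show Spec.map (CommRingCat.ofHom (φ 0)) ≫ iV.hom ≫ hV.isoSpec.inv =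
      (iU.hom ≫ hU.isoSpec.inv) ≫ f.resLE V₀ U₀ hUV'
    rw [← cancel_mono V₀.ι, Category.assoc, Category.assoc, Category.assoc, Category.assoc,
      Scheme.Hom.resLE_comp_ι, IsAffineOpen.isoSpec_inv_ι, IsAffineOpen.isoSpec_inv_ι_assoc, ← hφ₀,
      hiU, hiV, ← Category.assoc, ← Category.assoc]
    congr 1
    rw [← Spec.map_comp, ← Spec.map_comp, ← CommRingCat.ofHom_comp, ← CommRingCat.ofHom_comp]
    refine congrArg (fun g => Spec.map (CommRingCat.ofHom g)) (RingHom.ext fun z => ?_)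
    obtain ⟨y, hy⟩ := Ideal.Quotient.mk_surjective (eC.symm z)
    show φ 0 (eC.symm z) = eB.symm (φ₀ z)
    rw [← hy, hφ0]
    show eB.symm (φ₀ (eC (Ideal.Quotient.mk _ y))) = _
    rw [hy, eC.apply_symm_apply]

end Groth.Agent.FSLift
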